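import Cfsg.Agent.Lib.Leech.Basic
import Cfsg.Agent.Lib.Golay.UniqueApps

/-! A lattice with a frame and the vector count of norm 32 carries a doubly even self-dual code. -/

set_option autoImplicit false

namespace CfsgLib.Leech.Characterise

open Cfsg CfsgLib CfsgLib.Sporadic.AbstractGolay

/-- A lattice inside `ℤ^24` containing the standard frame, with the metric conditions. -/
structure FrameLattice (M : AddSubgroup (Fin 24 → ℤ)) : Prop where
  single_mem : ∀ i, Pi.single i 8 ∈ M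
  pair_mem : ∀ i j, Pi.single i 4 - Pi.single j 4 ∈ M
  parity : ∀ x ∈ M, ∀ i j, x i % 2 = x j % 2
  norm_dvd : ∀ x ∈ M, 16 ∣ ∑ i, x i ^ 2
  norm_min : ∀ x ∈ M, x ≠ 0 → 32 ≤ ∑ i, x i ^ 2
  dot_dvd : ∀ x ∈ M, ∀ y ∈ M, 8 ∣ ∑ i, x i * y i
  count : {x | x ∈ M ∧ ∑ i, x i ^ 2 = 32}.ncard = 196560

/-- Twice the lift of a word. -/
def two (c : Fin 24 → ZMod 2) : Fin 24 → ℤ := fun i => 2 * ((c i).val : ℤ)

theorem two_apply (c : Fin 24 → ZMod 2) (i : Fin 24) : two c i = if c i = 0 then 0 else 2 := by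
  rcases zmod_two_cases (c i) with h | h <;> simp [two, h, ZMod.val_one]

theorem bits_two (c : Fin 24 → ZMod 2) : bits (two c) = c := by
  funext i
  rcases zmod_two_cases (c i) with h | h <;> simp [bits, bit, two, h, ZMod.val_one]

theorem even_two (c : Fin 24 → ZMod 2) (i : Fin 24) : 2 ∣ two c i := Dvd.intro _ rfl

theorem bit_eq_zero_iff {a : ℤ} (h : 2 ∣ a) : bit a = 0 ↔ 4 ∣ a := by
  unfold bit
  rw [ZMod.intCast_zmod_eq_zero_iff_dvd]
  omega

theorem dvd_sub_of_bit {a b : ℤ} (h : a % 2 = b % 2) (e : bit a = bit b) : 4 ∣ a - b := by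
  unfold bit at e
  rw [ZMod.intCast_eq_intCast_iff_dvd_sub] at e
  omega

theorem bit_add_even {a b : ℤ} (ha : 2 ∣ a) : bit (a + b) = bit a + bit b := by
  unfold bit
  rw [Int.add_ediv_of_dvd_left ha]
  push_cast
  rfl

variable {M : AddSubgroup (Fin 24 → ℤ)}

theorem pairAdd_mem (hM : FrameLattice M) (i j : Fin 24) : Pi.single i 4 + Pi.single j 4 ∈ M := by
  have h := M.add_mem (hM.pair_mem i j) (hM.single_mem j)
  convert h using 1
  funext k
  simp only [Pi.add_apply, Pi.sub_apply, Pi.single_apply]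
  split_ifs <;> norm_num

theorem four_not_mem (hM : FrameLattice M) (i : Fin 24) : Pi.single i (4 : ℤ) ∉ M := by
  intro h
  have h1 := hM.norm_min _ h (by simp [Pi.single_eq_zero_iff])
  simp [Pi.single_apply, ite_pow] at h1

theorem mem_of_dvd (hM : FrameLattice M) {x : Fin 24 → ℤ} (h4 : ∀ i, 4 ∣ x i) (h8 : 8 ∣ ∑ i, x i) :
    x ∈ M := by
  choose y hy using h4
  obtain ⟨m, hm⟩ : 2 ∣ ∑ i, y i := by
    have : ∑ i, x i = 4 * ∑ i, y i := by rw [Finset.mul_sum]; exact Finset.sum_congr rfl fun i _ => hy i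
    omega
  have e : x = (∑ i, y i • (Pi.single i 4 - Pi.single 0 4 : Fin 24 → ℤ)) + m • Pi.single 0 8 := by
    funext k
    simp only [Pi.add_apply, Finset.sum_apply, Pi.smul_apply, Pi.sub_apply, smul_eq_mul, mul_sub,
      Finset.sum_sub_distrib, Pi.single_apply, mul_ite, mul_zero, Finset.sum_ite_eq, Finset.mem_univ,
      if_true]
    by_cases hk : k = 0
    · subst hk
      simp only [if_true, ← Finset.sum_mul, hm, hy]
      ring
    · simp [hk, hy, mul_comm]
  rw [e]
  exact M.add_mem (M.sum_mem fun i _ => M.zsmul_mem (hM.pair_mem i 0) _)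
    (M.zsmul_mem (hM.single_mem 0) _)

theorem mem_congr (hM : FrameLattice M) {x y : Fin 24 → ℤ} (h4 : ∀ i, 4 ∣ x i - y i)
    (h8 : 8 ∣ ∑ i, (x i - y i)) : x ∈ M ↔ y ∈ M := by
  have h : x - y ∈ M := mem_of_dvd hM h4 h8
  exact ⟨fun hx => by simpa using M.sub_mem hx h, fun hy => by simpa using M.add_mem h hy⟩

/-- The code of the even vectors. -/
def code (M : AddSubgroup (Fin 24 → ℤ)) : Submodule (ZMod 2) (Fin 24 → ZMod 2) where
  carrier := {c | ∃ x ∈ M, (∀ i, 2 ∣ x i) ∧ bits x = c}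
  zero_mem' := ⟨0, M.zero_mem, fun i => dvd_zero _, by funext i; simp [bits, bit]⟩
  add_mem' := by
    rintro _ _ ⟨x, hx, hx2, rfl⟩ ⟨y, hy, hy2, rfl⟩
    exact ⟨x + y, M.add_mem hx hy, fun i => dvd_add (hx2 i) (hy2 i),
      funext fun i => bit_add_even (hx2 i)⟩
  smul_mem' := by
    rintro a _ ⟨x, hx, hx2, rfl⟩
    rcases zmod_two_cases a with rfl | rfl
    · exact ⟨0, M.zero_mem, fun i => dvd_zero _, by funext i; simp [bits, bit]⟩
    · exact ⟨x, hx, hx2, (one_smul _ _).symm⟩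

theorem bits_mem_code {x : Fin 24 → ℤ} (hx : x ∈ M) (h2 : ∀ i, 2 ∣ x i) : bits x ∈ code M :=
  ⟨x, hx, h2, rfl⟩

theorem two_or (hM : FrameLattice M) {c : Fin 24 → ZMod 2} (hc : c ∈ code M) (j : Fin 24) :
    two c ∈ M ∨ two c - Pi.single j 4 ∈ M := by
  obtain ⟨x, hx, h2, rfl⟩ := hc
  have h4 : ∀ i, 4 ∣ x i - two (bits x) i := fun i => by
    refine dvd_sub_of_bit ?_ (congrFun (bits_two (bits x)) i).symm
    have := h2 i; have := even_two (bits x) i; omega
  have hsum : 4 ∣ ∑ i, (x i - two (bits x) i) := Finset.dvd_sum fun i _ => h4 i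
  by_cases h8 : 8 ∣ ∑ i, (x i - two (bits x) i)
  · exact Or.inl ((mem_congr hM h4 h8).1 hx)
  · refine Or.inr ((mem_congr hM (fun i => ?_) ?_).1 hx)
    · have := h4 i
      simp only [Pi.sub_apply, Pi.single_apply]
      split_ifs <;> omega
    · simp only [Pi.sub_apply, Finset.sum_sub_distrib, Finset.sum_pi_single', Finset.mem_univ,
        if_true] at h8 hsum ⊢
      omega

theorem exists_short (hM : FrameLattice M) {c : Fin 24 → ZMod 2} (hc : c ∈ code M) :
    ∃ z ∈ M, ∀ i, z i ^ 2 = if c i = 0 then 0 else 4 := by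
  by_cases h0 : c = 0
  · exact ⟨0, M.zero_mem, fun i => by simp [h0]⟩
  obtain ⟨j, hj⟩ := Function.ne_iff.1 h0
  rcases two_or hM hc j with h | h
  · exact ⟨two c, h, fun i => by rw [two_apply]; split_ifs <;> norm_num⟩
  · refine ⟨_, h, fun i => ?_⟩
    simp only [Pi.sub_apply, Pi.single_apply, two_apply]
    by_cases hij : i = j
    · subst hij; simp [show ¬ c i = 0 from hj]
    · simp only [hij, if_false]; split_ifs <;> norm_num

theorem weight_sum (c : Fin 24 → ZMod 2) :
    ∑ i, (if c i = 0 then (0 : ℤ) else 4) = 4 * (hammingNorm c : ℤ) := by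
  rw [hammingNorm, Finset.card_filter, Nat.cast_sum, Finset.mul_sum]
  exact Finset.sum_congr rfl fun i _ => by split_ifs <;> simp_all

theorem code_weight (hM : FrameLattice M) {c : Fin 24 → ZMod 2} (hc : c ∈ code M) :
    4 ∣ hammingNorm c ∧ (c ≠ 0 → 8 ≤ hammingNorm c) := by
  obtain ⟨z, hz, hzsq⟩ := exists_short hM hc
  have hs : ∑ i, z i ^ 2 = 4 * (hammingNorm c : ℤ) := by
    rw [← weight_sum, Finset.sum_congr rfl fun i _ => hzsq i]
  refine ⟨?_, fun hne => ?_⟩
  · have := hM.norm_dvd z hz; omega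
  · have hzne : z ≠ 0 := by
      intro e
      obtain ⟨j, hj⟩ := Function.ne_iff.1 hne
      have := hzsq j
      rw [e, if_neg (show ¬ c j = 0 from hj)] at this
      simp at this
    have := hM.norm_min z hz hzne
    omega

theorem code_orth (hM : FrameLattice M) {c d : Fin 24 → ZMod 2} (hc : c ∈ code M) (hd : d ∈ code M) :
    ∑ i, c i * d i = 0 := by
  obtain ⟨x, hx, hx2, rfl⟩ := hc
  obtain ⟨y, hy, hy2, rfl⟩ := hd
  have e : ∑ i, bits x i * bits y i = ((∑ i, x i / 2 * (y i / 2) : ℤ) : ZMod 2) := by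
    push_cast; rfl
  rw [e, ZMod.intCast_zmod_eq_zero_iff_dvd]
  have h8 := hM.dot_dvd x hx y hy
  have : ∑ i, x i * y i = 4 * ∑ i, x i / 2 * (y i / 2) := by
    rw [Finset.mul_sum]
    refine Finset.sum_congr rfl fun i _ => ?_
    have hx' := Int.mul_ediv_cancel' (hx2 i)
    have hy' := Int.mul_ediv_cancel' (hy2 i)
    conv_lhs => rw [← hx', ← hy']
    ring
  omega

theorem code_finrank_le (hM : FrameLattice M) : Module.finrank (ZMod 2) (code M) ≤ 12 :=
  Golay.Unique.finrank_le_twelve (Fintype.card_fin 24) _ fun _ hw => (code_weight hM hw).2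

open Classical in
theorem card_octwords (hM : FrameLattice M) :
    (Finset.univ.filter fun c : Fin 24 → ZMod 2 => c ∈ code M ∧ hammingNorm c = 8).card ≤ 759 := by
  classical
  set O := Finset.univ.filter fun c : Fin 24 → ZMod 2 => c ∈ code M ∧ hammingNorm c = 8
  have hdisj : (O : Set (Fin 24 → ZMod 2)).PairwiseDisjoint
      fun c => (supp c).powersetCard 5 := by
    intro c hc d hd hne
    refine Finset.disjoint_left.2 fun s hs hs' => ?_
    simp only [O, Finset.coe_filter, Set.mem_ofPred_eq, Finset.mem_univ, true_and] at hc hd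
    rw [Finset.mem_powersetCard] at hs hs'
    have h8 := (code_weight hM ((code M).add_mem hc.1 hd.1)).2 (fun e => hne ?_)
    · have h5 := Finset.card_le_card (Finset.subset_inter hs.1 hs'.1)
      rw [hs.2] at h5
      have hcard := card_symmDiff_add (supp c) (supp d)
      rw [← supp_add, card_supp, card_supp, card_supp, hc.2, hd.2] at hcard
      omega
    · funext i
      have := congrFun e i
      simp only [Pi.add_apply, Pi.zero_apply] at this
      rcases zmod_two_cases (c i) with h | h <;> rcases zmod_two_cases (d i) with h' | h' <;>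
        simp [h, h'] at this ⊢
  have hle := Finset.card_le_card
    (Finset.subset_univ (O.disjiUnion (fun c => (supp c).powersetCard 5) hdisj) |> fun _ =>
      (show O.disjiUnion (fun c => (supp c).powersetCard 5) hdisj ⊆
        (Finset.univ : Finset (Fin 24)).powersetCard 5 from fun s hs => by
        obtain ⟨c, -, hc⟩ := Finset.mem_disjiUnion.1 hs
        exact Finset.mem_powersetCard.2 ⟨Finset.subset_univ s, (Finset.mem_powersetCard.1 hc).2⟩))
  rw [Finset.card_disjiUnion, Finset.sum_congr rfl fun c hc => show ((supp c).powersetCard 5).card = 56 by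
    rw [Finset.card_powersetCard, card_supp, (Finset.mem_filter.1 hc).2.2]; rfl,
    Finset.sum_const, Finset.card_powersetCard, Finset.card_univ, Fintype.card_fin,
    show Nat.choose 24 5 = 42504 by decide +kernel, smul_eq_mul] at hle
  omega

/-- The short vectors supported on a frame pair. -/
def fourPair (p : (Fin 24 × Fin 24) × Bool × Bool) : Fin 24 → ℤ :=
  Pi.single p.1.1 (if p.2.1 then 4 else -4) + Pi.single p.1.2 (if p.2.2 then 4 else -4)

theorem mem_range_fourPair {x : Fin 24 → ℤ} (hn : ∑ i, x i ^ 2 = 32) (h4 : ∀ i, 4 ∣ x i) :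
    x ∈ Set.range fourPair := by
  choose y hy using h4
  have hy2 : ∑ i, y i ^ 2 = 2 := by
    have e : ∑ i, x i ^ 2 = 16 * ∑ i, y i ^ 2 := by
      rw [Finset.mul_sum]; exact Finset.sum_congr rfl fun i _ => by rw [hy i]; ring
    omega
  set T := Finset.univ.filter fun i => y i ≠ 0 with hT
  have hb : ∀ i, y i = 0 ∨ y i = 1 ∨ y i = -1 := fun i => by
    have := Finset.single_le_sum (fun j _ => sq_nonneg (y j)) (Finset.mem_univ i)
    rw [hy2] at this
    have h1 : -1 ≤ y i := by nlinarith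
    have h2 : y i ≤ 1 := by nlinarith
    omega
  have hT2 : T.card = 2 := by
    have e : ∑ i, y i ^ 2 = (T.card : ℤ) := by
      rw [hT, Finset.card_filter, Nat.cast_sum]
      exact Finset.sum_congr rfl fun i _ => by rcases hb i with h | h | h <;> simp [h]
    omega
  obtain ⟨a, b, hab, hTab⟩ := Finset.card_eq_two.1 hT2
  refine ⟨((a, b), decide (y a = 1), decide (y b = 1)), funext fun i => ?_⟩
  have ha : y a ≠ 0 := (Finset.mem_filter.1 (hTab ▸ Finset.mem_insert_self a _ : a ∈ T)).2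
  have hb0 : y b ≠ 0 := (Finset.mem_filter.1 (hTab ▸ by simp : b ∈ T)).2
  simp only [fourPair, Pi.add_apply, Pi.single_apply, decide_eq_true_eq]
  rw [hy i]
  by_cases hia : i = a
  · subst hia
    rw [if_pos rfl, if_neg hab, add_zero]
    rcases hb i with h | h | h <;> simp [h] at ha ⊢
  by_cases hib : i = b
  · subst hib
    rw [if_neg hia, if_pos rfl, zero_add]
    rcases hb i with h | h | h <;> simp [h] at hb0 ⊢
  · have : y i = 0 := by
      by_contra h
      have hi : i ∈ T := Finset.mem_filter.2 ⟨Finset.mem_univ i, h⟩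
      rw [hTab] at hi
      simp [hia, hib] at hi
    simp [hia, hib, this]

theorem ncard_four (M : AddSubgroup (Fin 24 → ℤ)) :
    {x | x ∈ M ∧ ∑ i, x i ^ 2 = 32 ∧ ∀ i, 4 ∣ x i}.ncard ≤ 2304 := by
  classical
  have hsub : {x | x ∈ M ∧ ∑ i, x i ^ 2 = 32 ∧ ∀ i, 4 ∣ x i} ⊆ Set.range fourPair := by
    intro x hx
    exact mem_range_fourPair hx.2.1 hx.2.2
  refine (Set.ncard_le_ncard hsub (Set.finite_range _)).trans ?_
  rw [← Nat.card_coe_set_eq]
  refine (Finite.card_range_le _).trans_eq ?_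
  rw [Nat.card_prod, Nat.card_prod, Nat.card_prod, Nat.card_eq_fintype_card, Nat.card_eq_fintype_card,
    Fintype.card_bool, Fintype.card_fin]

theorem twos_values (hM : FrameLattice M) {x : Fin 24 → ℤ} (hx : x ∈ M) (hn : ∑ i, x i ^ 2 = 32)
    (h2 : ∀ i, 2 ∣ x i) (hne : bits x ≠ 0) :
    hammingNorm (bits x) = 8 ∧ ∀ i, (bits x i = 0 → x i = 0) ∧ (bits x i ≠ 0 → x i = 2 ∨ x i = -2) := by
  have h8 := (code_weight hM (bits_mem_code hx h2)).2 hne
  have hle : ∀ i, (if bits x i = 0 then (0 : ℤ) else 4) ≤ x i ^ 2 := fun i => by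
    split_ifs with h
    · exact sq_nonneg _
    · obtain ⟨k, hk⟩ := h2 i
      have hk0 : k ≠ 0 := fun e => h (by simp [bits, bit, hk, e])
      rw [hk]
      have : 0 < k ^ 2 := by positivity
      nlinarith
  have hsum : ∑ i, (x i ^ 2 - if bits x i = 0 then (0 : ℤ) else 4) = 32 - 4 * (hammingNorm (bits x) : ℤ) := by
    rw [Finset.sum_sub_distrib, hn, weight_sum]
  have hnn : ∀ i, 0 ≤ x i ^ 2 - if bits x i = 0 then (0 : ℤ) else 4 := fun i => by linarith [hle i]
  have h0 : ∑ i, (x i ^ 2 - if bits x i = 0 then (0 : ℤ) else 4) = 0 := by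
    have := Finset.sum_nonneg fun i (_ : i ∈ (Finset.univ : Finset (Fin 24))) => hnn i
    omega
  refine ⟨by omega, fun i => ?_⟩
  have hi := (Finset.sum_eq_zero_iff_of_nonneg fun i _ => hnn i).1 h0 i (Finset.mem_univ i)
  refine ⟨fun h => ?_, fun h => ?_⟩
  · rw [if_pos h, sub_zero] at hi
    exact pow_eq_zero_iff (two_ne_zero) |>.1 hi
  · rw [if_neg h, sub_eq_zero] at hi
    exact sq_eq_sq_iff_eq_or_eq_neg.1 (hi.trans (by norm_num : (4 : ℤ) = 2 ^ 2))

theorem ncard_twos (hM : FrameLattice M) :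
    {x | x ∈ M ∧ ∑ i, x i ^ 2 = 32 ∧ (∀ i, 2 ∣ x i) ∧ bits x ≠ 0}.ncard ≤ 97152 := by
  classical
  set O := Finset.univ.filter fun c : Fin 24 → ZMod 2 => c ∈ code M ∧ hammingNorm c = 8
  have hne : ∀ c : Fin 24 → ZMod 2, hammingNorm c = 8 → (supp c).Nonempty := fun c h =>
    Finset.card_pos.1 (by rw [card_supp, h]; norm_num)
  let j : (Fin 24 → ZMod 2) → Fin 24 := fun c => if h : (supp c).Nonempty then (supp c).min' h else 0
  let key : (Fin 24 → ℤ) → (Σ _ : Fin 24 → ZMod 2, Finset (Fin 24)) := fun x =>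
    ⟨bits x, ((supp (bits x)).erase (j (bits x))).filter fun i => x i = 2⟩
  refine (Set.ncard_le_ncard_of_injOn key (t := ↑(O.sigma fun c => ((supp c).erase (j c)).powerset))
    ?_ ?_ (Finset.finite_toSet _)).trans ?_
  · rintro x ⟨hx, hn, h2, hne'⟩
    exact Finset.mem_coe.2 (Finset.mem_sigma.2 ⟨Finset.mem_filter.2 ⟨Finset.mem_univ _,
      bits_mem_code hx h2, (twos_values hM hx hn h2 hne').1⟩,
      Finset.mem_powerset.2 (Finset.filter_subset _ _)⟩)
  · rintro x ⟨hx, hn, h2, hne'⟩ y ⟨hy, hn', h2', hne''⟩ e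
    simp only [key, Sigma.mk.injEq] at e
    obtain ⟨e1, e2⟩ := e
    rw [← e1] at e2
    have e2' := eq_of_heq e2
    have hv := (twos_values hM hx hn h2 hne').2
    have hv' := (twos_values hM hy hn' h2' hne'').2
    rw [← e1] at hv'
    have hagree : ∀ i, i ≠ j (bits x) → x i = y i := by
      intro i hi
      by_cases hb : bits x i = 0
      · rw [(hv i).1 hb, (hv' i).1 hb]
      · have hm : i ∈ (supp (bits x)).erase (j (bits x)) :=
          Finset.mem_erase.2 ⟨hi, Finset.mem_filter.2 ⟨Finset.mem_univ i, hb⟩⟩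
        have hiff := Finset.ext_iff.1 e2' i
        simp only [Finset.mem_filter, hm, true_and] at hiff
        rcases (hv i).2 hb with h | h <;> rcases (hv' i).2 hb with h' | h' <;> rw [h, h'] at hiff ⊢ <;>
          simp at hiff
    funext i
    by_cases hi : i = j (bits x)
    · subst hi
      by_contra hne2
      have hd := M.sub_mem hx hy
      have h16 := hM.norm_min _ hd (fun e => hne2 (sub_eq_zero.1 (congrFun e _)))
      rw [Finset.sum_eq_single (j (bits x)) (fun i _ hi => by simp [hagree i hi])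
        (fun h => absurd (Finset.mem_univ _) h)] at h16
      simp only [Pi.sub_apply] at h16
      by_cases hb : bits x (j (bits x)) = 0
      · exact hne2 (by rw [(hv _).1 hb, (hv' _).1 hb])
      · rcases (hv _).2 hb with h | h <;> rcases (hv' _).2 hb with h' | h' <;> rw [h, h'] at h16 <;>
          norm_num at h16
    · exact hagree i hi
  · rw [Set.ncard_coe_finset, Finset.card_sigma, Finset.sum_congr rfl fun c hc => show
      ((supp c).erase (j c)).powerset.card = 128 by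
        have h8 := (Finset.mem_filter.1 hc).2.2
        rw [Finset.card_powerset, Finset.card_erase_of_mem (by
          simp only [j, dif_pos (hne c h8)]; exact Finset.min'_mem _ _), card_supp, h8]
        norm_num, Finset.sum_const, smul_eq_mul]
    have := card_octwords hM
    have hO : O.card ≤ 759 := by convert this
    omega

theorem odd_values {x : Fin 24 → ℤ} (hn : ∑ i, x i ^ 2 = 32) (hodd : ∀ i, x i % 2 = 1) :
    ∃ p, x p ^ 2 = 9 ∧ ∀ i, i ≠ p → x i ^ 2 = 1 := by
  have h1 : ∀ i, 8 ∣ x i ^ 2 - 1 ∧ 0 ≤ x i ^ 2 - 1 := fun i => by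
    obtain ⟨k, hk⟩ : ∃ k, x i = 2 * k + 1 := ⟨x i / 2, by have := hodd i; omega⟩
    rcases Int.even_mul_succ_self k with ⟨m, hm⟩
    rw [hk]
    refine ⟨⟨m, by linear_combination 4 * hm⟩, ?_⟩
    have h2 : (2 * k + 1) ^ 2 ≠ 0 := pow_ne_zero _ (by omega)
    have := sq_nonneg (2 * k + 1)
    omega
  have hs : ∑ i, (x i ^ 2 - 1) = 8 := by rw [Finset.sum_sub_distrib, hn]; simp
  obtain ⟨p, -, hp⟩ := Finset.exists_ne_zero_of_sum_ne_zero (by rw [hs]; norm_num : ∑ i, (x i ^ 2 - 1) ≠ 0)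
  have hsplit := Finset.add_sum_erase Finset.univ (fun i => x i ^ 2 - 1) (Finset.mem_univ p)
  have hnn := Finset.sum_nonneg fun i (_ : i ∈ Finset.univ.erase p) => (h1 i).2
  have hp8 : x p ^ 2 - 1 = 8 := by have := h1 p; omega
  refine ⟨p, by omega, fun i hi => ?_⟩
  have hz : ∑ i ∈ Finset.univ.erase p, (x i ^ 2 - 1) = 0 := by omega
  have := (Finset.sum_eq_zero_iff_of_nonneg fun i _ => (h1 i).2).1 hz i
    (Finset.mem_erase.2 ⟨hi, Finset.mem_univ i⟩)
  omega

theorem ncard_odd (hM : FrameLattice M) :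
    {x | x ∈ M ∧ ∑ i, x i ^ 2 = 32 ∧ ∀ i, x i % 2 = 1}.ncard ≤ 24 * Nat.card (code M) ∧
      ((¬ ∃ u ∈ M, ∀ i, u i % 2 = 1) →
        {x | x ∈ M ∧ ∑ i, x i ^ 2 = 32 ∧ ∀ i, x i % 2 = 1}.ncard = 0) := by
  classical
  have hzero : (¬ ∃ u ∈ M, ∀ i, u i % 2 = 1) →
      {x | x ∈ M ∧ ∑ i, x i ^ 2 = 32 ∧ ∀ i, x i % 2 = 1}.ncard = 0 := by
    intro h
    have e : {x | x ∈ M ∧ ∑ i, x i ^ 2 = 32 ∧ ∀ i, x i % 2 = 1} = ∅ :=
      Set.eq_empty_iff_forall_notMem.2 fun x hx => h ⟨x, hx.1, hx.2.2⟩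
    rw [e, Set.ncard_empty]
  refine ⟨?_, hzero⟩
  by_cases hu : ∃ u ∈ M, ∀ i, u i % 2 = 1
  swap
  · rw [hzero hu]; exact Nat.zero_le _
  obtain ⟨u, hu, hu1⟩ := hu
  let pos : (Fin 24 → ℤ) → Fin 24 := fun x => if h : ∃ p, x p ^ 2 = 9 then h.choose else 0
  refine (Set.ncard_le_ncard_of_injOn (fun x => (pos x, bits (x - u)))
    (t := (Set.univ : Set (Fin 24)) ×ˢ (code M : Set (Fin 24 → ZMod 2))) ?_ ?_ (Set.toFinite _)).trans ?_
  · rintro x ⟨hx, -, hodd⟩
    exact ⟨Set.mem_univ _, bits_mem_code (M.sub_mem hx hu) fun i => by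
      have := hodd i; have := hu1 i; simp only [Pi.sub_apply]; omega⟩
  · rintro x ⟨-, hn, hodd⟩ y ⟨-, hn', hodd'⟩ e
    simp only [Prod.mk.injEq] at e
    obtain ⟨p, hp, hpo⟩ := odd_values hn hodd
    obtain ⟨q, hq, hqo⟩ := odd_values hn' hodd'
    have hposx : pos x = p := by
      have hex : ∃ p, x p ^ 2 = 9 := ⟨p, hp⟩
      simp only [pos, dif_pos hex]
      by_contra hne
      have := hpo _ hne
      rw [hex.choose_spec] at this; norm_num at this
    have hposy : pos y = q := by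
      have hex : ∃ p, y p ^ 2 = 9 := ⟨q, hq⟩
      simp only [pos, dif_pos hex]
      by_contra hne
      have := hqo _ hne
      rw [hex.choose_spec] at this; norm_num at this
    obtain rfl : p = q := by rw [← hposx, ← hposy]; exact e.1
    funext i
    have hd : 4 ∣ (x i - u i) - (y i - u i) :=
      dvd_sub_of_bit (by have := hodd i; have := hodd' i; omega) (congrFun e.2 i)
    by_cases hi : i = p
    · subst hi
      have a : x i = 3 ∨ x i = -3 := sq_eq_sq_iff_eq_or_eq_neg.1 (hp.trans (by norm_num : (9 : ℤ) = 3 ^ 2))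
      have b : y i = 3 ∨ y i = -3 := sq_eq_sq_iff_eq_or_eq_neg.1 (hq.trans (by norm_num : (9 : ℤ) = 3 ^ 2))
      omega
    · have a := sq_eq_one_iff.1 (hpo i hi)
      have b := sq_eq_one_iff.1 (hqo i hi)
      omega
  · rw [Set.ncard_prod, Set.ncard_univ, Nat.card_fin, ← Nat.card_coe_set_eq]
    exact le_rfl

theorem count_bound (hM : FrameLattice M) :
    196560 ≤ 2304 + 97152 + {x | x ∈ M ∧ ∑ i, x i ^ 2 = 32 ∧ ∀ i, x i % 2 = 1}.ncard := by
  have hfin : {x | x ∈ M ∧ ∑ i, x i ^ 2 = 32}.Finite :=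
    Set.finite_of_ncard_ne_zero (by rw [hM.count]; norm_num)
  rw [← hM.count]
  refine (Set.ncard_le_ncard (t := ({x | x ∈ M ∧ ∑ i, x i ^ 2 = 32 ∧ ∀ i, 4 ∣ x i} ∪
      {x | x ∈ M ∧ ∑ i, x i ^ 2 = 32 ∧ (∀ i, 2 ∣ x i) ∧ bits x ≠ 0}) ∪
      {x | x ∈ M ∧ ∑ i, x i ^ 2 = 32 ∧ ∀ i, x i % 2 = 1}) ?_ ?_).trans ?_
  · rintro x ⟨hx, hn⟩
    rcases Int.emod_two_eq_zero_or_one (x 0) with h | h
    · have h2 : ∀ i, 2 ∣ x i := fun i => by have := hM.parity x hx i 0; omega
      by_cases hb : bits x = 0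
      · exact Or.inl (Or.inl ⟨hx, hn, fun i => (bit_eq_zero_iff (h2 i)).1 (congrFun hb i)⟩)
      · exact Or.inl (Or.inr ⟨hx, hn, h2, hb⟩)
    · exact Or.inr ⟨hx, hn, fun i => by rw [hM.parity x hx i 0]; exact h⟩
  · exact ((hfin.subset fun x hx => ⟨hx.1, hx.2.1⟩).union
      (hfin.subset fun x hx => ⟨hx.1, hx.2.1⟩)).union (hfin.subset fun x hx => ⟨hx.1, hx.2.1⟩)
  · refine (Set.ncard_union_le _ _).trans (Nat.add_le_add_right ?_ _)
    exact (Set.ncard_union_le _ _).trans (Nat.add_le_add (ncard_four M) (ncard_twos hM))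

theorem code_finrank (hM : FrameLattice M) : Module.finrank (ZMod 2) (code M) = 12 := by
  have h := count_bound hM
  have h' := (ncard_odd hM).1
  rw [Module.natCard_eq_pow_finrank (K := ZMod 2), Nat.card_zmod] at h'
  have := code_finrank_le hM
  by_contra hne
  have : 2 ^ Module.finrank (ZMod 2) (code M) ≤ 2 ^ 11 := Nat.pow_le_pow_right (by norm_num) (by omega)
  omega

theorem exists_odd (hM : FrameLattice M) : ∃ u ∈ M, ∀ i, u i % 2 = 1 := by
  by_contra h
  have := count_bound hM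
  have := (ncard_odd hM).2 h
  omega

end CfsgLib.Leech.Characterise
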