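import Cfsg.Agent.Lib.Leech.Characterise.Code
import Cfsg.Agent.Lib.Lattice.ModTwo

/-! A rootless even lattice of rank 24 with the vector counts of the Leech lattice is the Leech lattice. -/

set_option autoImplicit false

namespace CfsgLib.Leech.Characterise

open Cfsg CfsgLib CfsgLib.Sporadic.AbstractGolay

variable {M : AddSubgroup (Fin 24 → ℤ)}

/-- The sign change on the support of a word. -/
def flipHom (t : Fin 24 → ZMod 2) : (Fin 24 → ℤ) →+ (Fin 24 → ℤ) where
  toFun x i := if t i = 0 then x i else -x i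
  map_zero' := by funext i; simp
  map_add' x y := by funext i; simp only [Pi.add_apply]; split_ifs <;> ring

theorem flipHom_apply (t : Fin 24 → ZMod 2) (x : Fin 24 → ℤ) (i : Fin 24) :
    flipHom t x i = if t i = 0 then x i else -x i := rfl

theorem flipHom_flipHom (t : Fin 24 → ZMod 2) (x : Fin 24 → ℤ) : flipHom t (flipHom t x) = x := by
  funext i; simp only [flipHom_apply]; split_ifs <;> ring

theorem frame_comap (hM : FrameLattice M) (t : Fin 24 → ZMod 2) : FrameLattice (M.comap (flipHom t)) where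
  single_mem i := by
    rw [AddSubgroup.mem_comap]
    by_cases h : t i = 0
    · convert hM.single_mem i using 1
      funext k; simp only [flipHom_apply, Pi.single_apply]; split_ifs <;> simp_all
    · convert M.neg_mem (hM.single_mem i) using 1
      funext k; simp only [flipHom_apply, Pi.neg_apply, Pi.single_apply]; split_ifs <;> simp_all
  pair_mem i j := by
    rw [AddSubgroup.mem_comap]
    refine mem_of_dvd hM (fun k => ?_) ?_
    · simp only [flipHom_apply, Pi.sub_apply, Pi.single_apply]; split_ifs <;> norm_num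
    · have e : ∀ a : Fin 24, ∑ k, flipHom t (Pi.single a 4) k = if t a = 0 then 4 else -4 := fun a => by
        rw [Finset.sum_eq_single a (fun k _ hk => by simp [flipHom_apply, hk])
          (fun h => absurd (Finset.mem_univ a) h)]
        simp [flipHom_apply]
      rw [map_sub]
      simp only [Pi.sub_apply, Finset.sum_sub_distrib, e]
      split_ifs <;> norm_num
  parity x hx i j := by
    have := hM.parity _ hx i j
    simp only [flipHom_apply] at this
    split_ifs at this <;> omega
  norm_dvd x hx := by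
    convert hM.norm_dvd _ hx using 1
    exact Finset.sum_congr rfl fun i _ => by simp only [flipHom_apply]; split_ifs <;> ring
  norm_min x hx hne := by
    refine (hM.norm_min _ hx fun e => hne ?_).trans_eq
      (Finset.sum_congr rfl fun i _ => by simp only [flipHom_apply]; split_ifs <;> ring)
    rw [← flipHom_flipHom t x, e, map_zero]
  dot_dvd x hx y hy := by
    convert hM.dot_dvd _ hx _ hy using 1
    exact Finset.sum_congr rfl fun i _ => by simp only [flipHom_apply]; split_ifs <;> ring
  count := by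
    rw [← hM.count, ← Set.ncard_image_of_injective _
      (Function.LeftInverse.injective (g := flipHom t) (flipHom_flipHom t))]
    congr 1
    ext x
    constructor
    · rintro ⟨z, ⟨hz, hn⟩, rfl⟩
      refine ⟨hz, ?_⟩
      rw [← hn]
      exact Finset.sum_congr rfl fun i _ => by simp only [flipHom_apply]; split_ifs <;> ring
    · rintro ⟨hx, hn⟩
      refine ⟨flipHom t x, ⟨by rw [AddSubgroup.mem_comap, flipHom_flipHom]; exact hx, ?_⟩, flipHom_flipHom t x⟩
      rw [← hn]
      exact Finset.sum_congr rfl fun i _ => by simp only [flipHom_apply]; split_ifs <;> ring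

theorem bits_flipHom (t : Fin 24 → ZMod 2) {x : Fin 24 → ℤ} (h2 : ∀ i, 2 ∣ x i) :
    bits (flipHom t x) = bits x := by
  funext i
  simp only [bits, flipHom_apply]
  split_ifs
  · rfl
  · have h0 : bit (-x i) + bit (x i) = 0 := by
      rw [← bit_add_even (dvd_neg.2 (h2 i)), neg_add_cancel]; rfl
    exact CharTwo.add_eq_zero.1 h0

theorem code_comap (t : Fin 24 → ZMod 2) : code (M.comap (flipHom t)) = code M := by
  have he : ∀ x : Fin 24 → ℤ, (∀ i, 2 ∣ x i) → ∀ i, 2 ∣ flipHom t x i := fun x h2 i => by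
    simp only [flipHom_apply]; split_ifs <;> simp [h2 i]
  refine le_antisymm ?_ ?_
  · rintro _ ⟨x, hx, h2, rfl⟩
    exact ⟨flipHom t x, hx, he x h2, bits_flipHom t h2⟩
  · rintro _ ⟨x, hx, h2, rfl⟩
    exact ⟨flipHom t x, by rw [AddSubgroup.mem_comap, flipHom_flipHom]; exact hx, he x h2,
      bits_flipHom t h2⟩

/-- The defect of a word. -/
noncomputable def defect (M : AddSubgroup (Fin 24 → ℤ)) (c : Fin 24 → ZMod 2) : ZMod 2 :=
  @ite _ (two c ∈ M) (Classical.propDecidable _) 0 1

theorem mem_two_add (hM : FrameLattice M) {c d : Fin 24 → ZMod 2} (hc : c ∈ code M) (hd : d ∈ code M) :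
    two (c + d) ∈ M ↔ two c + two d ∈ M := by
  refine mem_congr hM (fun i => ?_) ?_
  · rcases zmod_two_cases (c i) with h | h <;> rcases zmod_two_cases (d i) with h' | h' <;>
      simp [two, h, h', ZMod.val_one, CharTwo.add_self_eq_zero]
  · have e : ∀ i, two (c + d) i - (two c + two d) i = -4 * (((c i * d i).val : ℕ) : ℤ) := fun i => by
      rcases zmod_two_cases (c i) with h | h <;> rcases zmod_two_cases (d i) with h' | h' <;>
        simp [two, h, h', ZMod.val_one, CharTwo.add_self_eq_zero]
    rw [Finset.sum_congr rfl fun i _ => e i, ← Finset.mul_sum]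
    have ho := code_orth hM hc hd
    have hcast : ((∑ i, (((c i * d i).val : ℕ) : ℤ) : ℤ) : ZMod 2) = 0 := by
      push_cast
      simp only [ZMod.natCast_zmod_val]
      exact ho
    rw [ZMod.intCast_zmod_eq_zero_iff_dvd] at hcast
    omega

theorem defect_add (hM : FrameLattice M) {c d : Fin 24 → ZMod 2} (hc : c ∈ code M) (hd : d ∈ code M) :
    defect M (c + d) = defect M c + defect M d := by
  classical
  unfold defect
  by_cases h1 : two c ∈ M <;> by_cases h2 : two d ∈ M
  · rw [if_pos h1, if_pos h2, if_pos ((mem_two_add hM hc hd).2 (M.add_mem h1 h2)), add_zero]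
  · rw [if_pos h1, if_neg h2, if_neg (fun h => h2 (by
      simpa using M.sub_mem ((mem_two_add hM hc hd).1 h) h1)), zero_add]
  · rw [if_neg h1, if_pos h2, if_neg (fun h => h1 (by
      simpa using M.sub_mem ((mem_two_add hM hc hd).1 h) h2)), add_zero]
  · rw [if_neg h1, if_neg h2, if_pos, CharTwo.add_self_eq_zero]
    have g1 := (two_or hM hc 0).resolve_left h1
    have g2 := (two_or hM hd 0).resolve_left h2
    refine (mem_two_add hM hc hd).2 ?_
    have := M.add_mem (M.add_mem g1 g2) (hM.single_mem 0)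
    convert this using 1
    funext k
    simp only [Pi.add_apply, Pi.sub_apply, Pi.single_apply]
    split_ifs <;> ring

theorem exists_signs (hM : FrameLattice M) :
    ∃ t : Fin 24 → ZMod 2, ∀ c ∈ code M, two c ∈ M.comap (flipHom t) := by
  classical
  let δ : code M →ₗ[ZMod 2] ZMod 2 :=
    { toFun := fun c => defect M c.1
      map_add' := fun c d => defect_add hM c.2 d.2
      map_smul' := fun a c => by
        rcases zmod_two_cases a with rfl | rfl
        · simp only [zero_smul, RingHom.id_apply]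
          have h0 : two (0 : Fin 24 → ZMod 2) ∈ M := by
            convert M.zero_mem using 1
            funext i; simp [two]
          show defect M 0 = 0
          rw [defect, if_pos h0]
        · simp }
  obtain ⟨φ, hφ⟩ := LinearMap.exists_extend δ
  refine ⟨fun i => φ (Pi.single i 1), fun c hc => ?_⟩
  set t := fun i => φ (Pi.single i 1) with ht
  have hdot : ∑ i, c i * t i = defect M c := by
    rw [show defect M c = δ ⟨c, hc⟩ from rfl, ← hφ, LinearMap.comp_apply, Submodule.subtype_apply]
    show _ = φ c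
    conv_rhs => rw [← Finset.univ_sum_single c, map_sum]
    refine Finset.sum_congr rfl fun i _ => ?_
    rw [show (Pi.single i (c i) : Fin 24 → ZMod 2) = c i • Pi.single i 1 by
      rw [← Pi.single_smul', smul_eq_mul, mul_one], map_smul, smul_eq_mul]
  have e : ∀ i, flipHom t (two c) i - two c i = -4 * (((c i * t i).val : ℕ) : ℤ) := fun i => by
    rcases zmod_two_cases (c i) with h | h <;> rcases zmod_two_cases (t i) with h' | h' <;>
      simp [flipHom_apply, two, h, h', ZMod.val_one]
  have hsum : (((∑ i, (((c i * t i).val : ℕ) : ℤ)) : ℤ) : ZMod 2) = defect M c := by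
    push_cast
    simp only [ZMod.natCast_zmod_val]
    exact hdot
  rw [AddSubgroup.mem_comap]
  by_cases h : two c ∈ M
  · rw [defect, if_pos h, ZMod.intCast_zmod_eq_zero_iff_dvd] at hsum
    refine (mem_congr hM (fun i => ?_) ?_).2 h
    · rw [e i]; exact Dvd.dvd.mul_right (by norm_num) _
    · rw [Finset.sum_congr rfl fun i _ => e i, ← Finset.mul_sum]; omega
  · rw [defect, if_neg h, ← Int.cast_one, ZMod.intCast_eq_intCast_iff_dvd_sub] at hsum
    refine (mem_congr hM (fun i => ?_) ?_).2 ((two_or hM hc 0).resolve_left h)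
    · rw [show flipHom t (two c) i - (two c - Pi.single 0 4 : Fin 24 → ℤ) i =
        (flipHom t (two c) i - two c i) + (Pi.single 0 4 : Fin 24 → ℤ) i by
          simp only [Pi.sub_apply]; ring, e i]
      simp only [Pi.single_apply]
      split_ifs <;> omega
    · rw [Finset.sum_congr rfl fun i _ => show flipHom t (two c) i -
        (two c - Pi.single 0 4 : Fin 24 → ℤ) i =
        -4 * (((c i * t i).val : ℕ) : ℤ) + (Pi.single 0 4 : Fin 24 → ℤ) i by
          rw [← e i]; simp only [Pi.sub_apply]; ring,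
        Finset.sum_add_distrib, ← Finset.mul_sum, Finset.sum_pi_single']
      simp only [Finset.mem_univ, if_true]
      omega

theorem mem_code_of_orth (hM : FrameLattice M) {v : Fin 24 → ZMod 2}
    (h : ∀ c ∈ code M, ∑ i, c i * v i = 0) : v ∈ code M := by
  have hle : code M ≤ Golay.Unique.dualCode (code M) := fun c hc =>
    Golay.Unique.mem_dualCode.2 fun d hd => code_orth hM hc hd
  have heq : code M = Golay.Unique.dualCode (code M) := by
    refine Submodule.eq_of_le_of_finrank_eq hle ?_
    have := Golay.Unique.finrank_add_dualCode (code M)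
    rw [code_finrank hM, Fintype.card_fin] at this
    rw [code_finrank hM]; omega
  rw [heq]
  exact Golay.Unique.mem_dualCode.2 fun d hd =>
    (Finset.sum_congr rfl fun i _ => mul_comm _ _).trans (h d hd)

/-- The defining condition on `Fin 24`. -/
def IsLeechFin (C : Submodule (ZMod 2) (Fin 24 → ZMod 2)) (x : Fin 24 → ℤ) : Prop :=
  (∀ i, x i % 2 = x 0 % 2) ∧ bits x ∈ C ∧ (∑ i, x i) % 8 = 4 * x 0 % 8

theorem sum_two_dvd (hM : FrameLattice M) {c : Fin 24 → ZMod 2} (hc : c ∈ code M) :
    8 ∣ ∑ i, two c i := by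
  have h4 := (code_weight hM hc).1
  have e : ∑ i, two c i = 2 * (hammingNorm c : ℤ) := by
    rw [hammingNorm, Finset.card_filter, Nat.cast_sum, Finset.mul_sum]
    refine Finset.sum_congr rfl fun i _ => ?_
    rw [two_apply]; split_ifs <;> simp_all
  omega

theorem mem_iff_even (hM : FrameLattice M) (h2c : ∀ c ∈ code M, two c ∈ M) {x : Fin 24 → ℤ}
    (h2 : ∀ i, 2 ∣ x i) : x ∈ M ↔ bits x ∈ code M ∧ (∑ i, x i) % 8 = 0 := by
  have h4 : ∀ i, 4 ∣ x i - two (bits x) i := fun i => by
    refine dvd_sub_of_bit ?_ (congrFun (bits_two (bits x)) i).symm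
    have := h2 i; have := even_two (bits x) i; omega
  constructor
  · intro hx
    have hb := bits_mem_code hx h2
    refine ⟨hb, ?_⟩
    have hd : x - two (bits x) ∈ M := M.sub_mem hx (h2c _ hb)
    have hs2 := sum_two_dvd hM hb
    have h4s : 4 ∣ ∑ i, (x i - two (bits x) i) := Finset.dvd_sum fun i _ => h4 i
    by_contra hne
    apply four_not_mem hM 0
    rw [Finset.sum_sub_distrib] at h4s
    refine (mem_congr hM (fun i => ?_) ?_).1 hd
    · have := h4 i
      simp only [Pi.sub_apply, Pi.single_apply]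
      split_ifs <;> omega
    · simp only [Pi.sub_apply, Finset.sum_sub_distrib, Finset.sum_pi_single', Finset.mem_univ, if_true]
      omega
  · rintro ⟨hb, hs⟩
    refine (mem_congr hM h4 ?_).2 (h2c _ hb)
    have hs2 := sum_two_dvd hM hb
    rw [Finset.sum_sub_distrib]
    omega

theorem exists_one_mod_four (hM : FrameLattice M) (h2c : ∀ c ∈ code M, two c ∈ M) :
    ∃ u ∈ M, (∀ i, u i % 4 = 1) ∧ (∑ i, u i) % 8 = 4 := by
  obtain ⟨u, hu, hu1⟩ := exists_odd hM
  have hb : bits u ∈ code M := by
    refine mem_code_of_orth hM fun c hc => ?_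
    have h8 := hM.dot_dvd u hu _ (h2c c hc)
    have e : ∀ i, u i * two c i = 2 * ((c i).val : ℤ) + 4 * (((c i).val : ℤ) * (u i / 2)) := fun i => by
      have := hu1 i
      have hu2 : u i = 2 * (u i / 2) + 1 := by omega
      conv_lhs => rw [hu2]
      simp only [two]; ring
    have hw : ∑ i, ((c i).val : ℤ) = (hammingNorm c : ℤ) := by
      rw [hammingNorm, Finset.card_filter, Nat.cast_sum]
      refine Finset.sum_congr rfl fun i _ => ?_
      rcases zmod_two_cases (c i) with h | h <;> simp [h, ZMod.val_one]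
    rw [Finset.sum_congr rfl fun i _ => e i, Finset.sum_add_distrib, ← Finset.mul_sum, ← Finset.mul_sum,
      hw] at h8
    have h4 := (code_weight hM hc).1
    have hcast : (((∑ i, ((c i).val : ℤ) * (u i / 2)) : ℤ) : ZMod 2) = 0 := by
      rw [ZMod.intCast_zmod_eq_zero_iff_dvd]; omega
    push_cast at hcast
    simp only [ZMod.natCast_zmod_val] at hcast
    exact hcast
  refine ⟨u - two (bits u), M.sub_mem hu (h2c _ hb), ?_⟩
  have hmod : ∀ i, (u - two (bits u)) i % 4 = 1 := fun i => by
    have := hu1 i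
    rcases zmod_cast_even_or_odd (u i / 2) with ⟨h, h'⟩ | ⟨h, h'⟩ <;>
      simp only [Pi.sub_apply, two, bits, bit, h', ZMod.val_zero, ZMod.val_one] <;>
      push_cast <;> omega
  refine ⟨hmod, ?_⟩
  have hN := hM.norm_dvd _ (M.sub_mem hu (h2c _ hb))
  have hk : ∀ i, (u - two (bits u)) i = 1 + 4 * ((u - two (bits u)) i / 4) := fun i => by
    have := hmod i; omega
  rw [Finset.sum_congr rfl fun i _ => hk i, Finset.sum_add_distrib, ← Finset.mul_sum]
  rw [Finset.sum_congr rfl fun i _ => show (u - two (bits u)) i ^ 2 =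
      1 + 8 * ((u - two (bits u)) i / 4) + 16 * ((u - two (bits u)) i / 4) ^ 2 by
      conv_lhs => rw [hk i]
      ring,
    Finset.sum_add_distrib, Finset.sum_add_distrib, ← Finset.mul_sum, ← Finset.mul_sum] at hN
  simp only [Finset.sum_const, Finset.card_univ, Fintype.card_fin, nsmul_eq_mul, Nat.cast_ofNat,
    mul_one] at hN ⊢
  omega

theorem mem_iff_isLeechFin (hM : FrameLattice M) (h2c : ∀ c ∈ code M, two c ∈ M) (x : Fin 24 → ℤ) :
    x ∈ M ↔ IsLeechFin (code M) x := by
  rcases Int.emod_two_eq_zero_or_one (x 0) with h0 | h0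
  · constructor
    · intro hx
      have h2 : ∀ i, 2 ∣ x i := fun i => by have := hM.parity x hx i 0; omega
      obtain ⟨hb, hs⟩ := (mem_iff_even hM h2c h2).1 hx
      exact ⟨fun i => hM.parity x hx i 0, hb, by omega⟩
    · rintro ⟨hp, hb, hs⟩
      exact (mem_iff_even hM h2c fun i => by have := hp i; omega).2 ⟨hb, by omega⟩
  · obtain ⟨u, hu, hu4, hus⟩ := exists_one_mod_four hM h2c
    have hbits : ∀ hp : ∀ i, x i % 2 = x 0 % 2, bits (x - u) = bits x := fun hp => by
      funext i
      simp only [bits, bit, Pi.sub_apply]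
      rw [ZMod.intCast_eq_intCast_iff_dvd_sub]
      have := hp i; have := hu4 i; omega
    constructor
    · intro hx
      have hp := fun i => hM.parity x hx i 0
      obtain ⟨hb, hs⟩ := (mem_iff_even hM h2c (x := x - u) fun i => by
        have := hp i; have := hu4 i; simp only [Pi.sub_apply]; omega).1 (M.sub_mem hx hu)
      rw [hbits hp] at hb
      simp only [Pi.sub_apply, Finset.sum_sub_distrib] at hs
      exact ⟨hp, hb, by omega⟩
    · rintro ⟨hp, hb, hs⟩
      have h2 : ∀ i, 2 ∣ (x - u) i := fun i => by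
        have := hp i; have := hu4 i; simp only [Pi.sub_apply]; omega
      have hxu : x - u ∈ M := (mem_iff_even hM h2c h2).2 ⟨(hbits hp).symm ▸ hb, by
        simp only [Pi.sub_apply, Finset.sum_sub_distrib]; omega⟩
      simpa using M.add_mem hxu hu

/-- The frame lattices are signed coordinate images of the Leech lattice. -/
theorem exists_equiv (hM : FrameLattice M) :
    ∃ t : Fin 24 → ZMod 2, ∃ e : Fin 24 ≃ GolayPt,
      ∀ x : GolayPt → ℤ, x ∈ leechLattice ↔ flipHom t (fun i => x (e i)) ∈ M := by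
  obtain ⟨t, ht⟩ := exists_signs hM
  set N := M.comap (flipHom t) with hN
  have hNf : FrameLattice N := frame_comap hM t
  have hcode : code N = code M := code_comap t
  obtain ⟨e, he⟩ := Golay.Unique.code_unique (code M) (code_finrank hM) (fun v hv w hw => code_orth hM hv hw)
    (fun w hw => (code_weight hM hw).1) (fun w hw h => by
      have := (code_weight hM hw).2 (by rintro rfl; simp at h); omega)
  refine ⟨t, e, fun x => ?_⟩
  rw [mem_leech_iff, ← AddSubgroup.mem_comap, ← hN,
    mem_iff_isLeechFin hNf (fun c hc => ht c (hcode ▸ hc)), hcode]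
  have hs : ∑ i, x (e i) = ∑ p, x p := Equiv.sum_comp e x
  constructor
  · rintro ⟨hp, hb, hsum⟩
    refine ⟨fun i => (hp _).trans (hp _).symm, (he (bits x)).1 hb, ?_⟩
    simp only [hs]; have := hp (e 0); omega
  · rintro ⟨hp, hb, hsum⟩
    have hp' : ∀ p, x p % 2 = x (e 0) % 2 := fun p => by
      have := hp (e.symm p)
      simpa using this
    refine ⟨fun p => (hp' p).trans (hp' none).symm, (he (bits x)).2 hb, ?_⟩
    simp only [hs] at hsum; have := hp' none; omega

section Frame

variable {B : Matrix (Fin 24) (Fin 24) ℤ}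

local notation "β" => Lattice.ModTwo.matrixPairing B

theorem exists_frame (hsymm : B.IsSymm) (hpos : ∀ x : Fin 24 → ℤ, x ≠ 0 → 0 < x ⬝ᵥ (B.mulVec x))
    (heven : ∀ x : Fin 24 → ℤ, (2 : ℤ) ∣ x ⬝ᵥ (B.mulVec x))
    (h2 : ∀ x : Fin 24 → ℤ, x ⬝ᵥ (B.mulVec x) ≠ 2)
    (h4 : {x : Fin 24 → ℤ | x ⬝ᵥ (B.mulVec x) = 4}.ncard = 196560)
    (h6 : {x : Fin 24 → ℤ | x ⬝ᵥ (B.mulVec x) = 6}.ncard = 16773120)
    (h8 : {x : Fin 24 → ℤ | x ⬝ᵥ (B.mulVec x) = 8}.ncard = 398034000) :
    ∃ f : Fin 24 → (Fin 24 → ℤ), (∀ i, β (f i) (f i) = 8) ∧ (∀ i j, i ≠ j → β (f i) (f j) = 0) ∧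
      ∀ i j, Lattice.ModTwo.Cong (f i) (f j) := by
  classical
  have hs := Lattice.ModTwo.matrixPairing_symm hsymm
  have hmin := Lattice.ModTwo.matrixPairing_min hpos heven h2
  have hcl := (Lattice.ModTwo.classes hs 1 (by norm_num) hmin (I := Fin 24) (Fintype.card_fin 24)
    (AddMonoidHom.id _) Function.injective_id h4 h6 h8).1
  obtain ⟨x₀, hx₀⟩ : {x : Fin 24 → ℤ | x ⬝ᵥ (B.mulVec x) = 8}.Nonempty :=
    Set.nonempty_of_ncard_ne_zero (by rw [h8]; norm_num)
  have h48 := hcl x₀ hx₀
  have hfin := Set.finite_of_ncard_ne_zero (by rw [h48]; norm_num :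
    {y | β y y = 8 * 1 ∧ Lattice.ModTwo.Cong x₀ y}.ncard ≠ 0)
  set F := hfin.toFinset
  have hF : ∀ y, y ∈ F ↔ β y y = 8 * 1 ∧ Lattice.ModTwo.Cong x₀ y := fun y => hfin.mem_toFinset
  have hFcard : F.card = 48 := (Set.ncard_eq_toFinset_card _ hfin).symm.trans h48
  have hneg : ∀ y ∈ F, -y ∈ F := by
    intro y hy
    obtain ⟨h1, z, hz⟩ := (hF y).1 hy
    exact (hF _).2 ⟨by simpa using h1, z + y, by rw [smul_add, ← hz, two_nsmul]; abel⟩
  have hne : ∀ y ∈ F, y ≠ -y := by
    intro y hy e
    have h := ((hF y).1 hy).1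
    have h0 : y = 0 := funext fun i => by have := congrFun e i; simp only [Pi.neg_apply, Pi.zero_apply] at *; omega
    rw [h0] at h; simp at h
  let f : (Fin 24 → ℤ) → Finset (Fin 24 → ℤ) := fun y => {y, -y}
  have hfib : ∀ b ∈ F.image f, (F.filter fun y => f y = b).card = 2 := by
    intro b hb
    obtain ⟨y, hy, rfl⟩ := Finset.mem_image.1 hb
    have e : (F.filter fun z => f z = f y) = {y, -y} := by
      ext z
      simp only [Finset.mem_filter, Finset.mem_insert, Finset.mem_singleton]
      constructor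
      · rintro ⟨-, hz⟩
        have : z ∈ f y := by rw [← hz]; simp [f]
        simpa [f] using this
      · rintro (rfl | rfl)
        · exact ⟨hy, rfl⟩
        · exact ⟨hneg y hy, by simp [f, Finset.pair_comm]⟩
    rw [e, Finset.card_pair (hne y hy)]
  have h24 : (F.image f).card = 24 := by
    have := Finset.card_eq_sum_card_image f F
    rw [hFcard, Finset.sum_congr rfl hfib, Finset.sum_const, smul_eq_mul] at this
    omega
  let idx : Fin 24 ≃ (F.image f) := (Finset.equivFinOfCardEq h24).symm
  have hex : ∀ i, ∃ y, y ∈ F ∧ f y = (idx i).1 := fun i => Finset.mem_image.1 (idx i).2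
  choose g hgF hgf using hex
  refine ⟨g, fun i => by simpa using ((hF _).1 (hgF i)).1, fun i j hij => ?_,
    fun i j => ((hF _).1 (hgF i)).2.symm.trans ((hF _).1 (hgF j)).2⟩
  rcases Lattice.ModTwo.short_cong hs 1 hmin (((hF _).1 (hgF i)).2.symm.trans ((hF _).1 (hgF j)).2)
    ((hF _).1 (hgF i)).1.le ((hF _).1 (hgF j)).1.le with h | h | h
  · exact absurd (idx.injective (Subtype.ext (by rw [← hgf i, ← hgf j, h]))) hij
  · refine absurd (idx.injective (Subtype.ext ?_)) hij
    rw [← hgf i, ← hgf j, h]
    simp [f, Finset.pair_comm]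
  · exact h.2.2

theorem exists_leech_equiv (hsymm : B.IsSymm) (hpos : ∀ x : Fin 24 → ℤ, x ≠ 0 → 0 < x ⬝ᵥ (B.mulVec x))
    (heven : ∀ x : Fin 24 → ℤ, (2 : ℤ) ∣ x ⬝ᵥ (B.mulVec x))
    (h2 : ∀ x : Fin 24 → ℤ, x ⬝ᵥ (B.mulVec x) ≠ 2)
    (h4 : {x : Fin 24 → ℤ | x ⬝ᵥ (B.mulVec x) = 4}.ncard = 196560)
    (h6 : {x : Fin 24 → ℤ | x ⬝ᵥ (B.mulVec x) = 6}.ncard = 16773120)
    (h8 : {x : Fin 24 → ℤ | x ⬝ᵥ (B.mulVec x) = 8}.ncard = 398034000) :
    ∃ F : (Fin 24 → ℤ) ≃+ leechLattice,
      ∀ x, sqNorm ((F x : leechLattice) : GolayPt → ℤ) = 8 * (x ⬝ᵥ (B.mulVec x)) := by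
  classical
  obtain ⟨f, hnorm, horth, hcong⟩ := exists_frame hsymm hpos heven h2 h4 h6 h8
  have hs := Lattice.ModTwo.matrixPairing_symm hsymm
  have hmin := Lattice.ModTwo.matrixPairing_min hpos heven h2
  let Φ : (Fin 24 → ℤ) →+ (Fin 24 → ℤ) :=
    AddMonoidHom.mk' (fun x i => β x (f i)) (fun x y => by funext i; simp)
  have hΦ : ∀ x i, Φ x i = β x (f i) := fun _ _ => rfl
  have hexp : ∀ x, (8 : ℤ) • x = ∑ i, Φ x i • f i := by
    intro x
    by_contra hne
    set y := (8 : ℤ) • x - ∑ i, Φ x i • f i with hy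
    have hy0 : y ≠ 0 := sub_ne_zero.2 hne
    have hyf : ∀ j, β y (f j) = 0 := fun j => by
      simp only [hy, map_sub, map_zsmul, map_sum, AddMonoidHom.sub_apply, AddMonoidHom.finsetSum_apply,
        AddMonoidHom.coe_smul, Pi.smul_apply, smul_eq_mul]
      rw [Finset.sum_eq_single j (fun i _ hi => by rw [horth i j hi, mul_zero])
        (fun h => absurd (Finset.mem_univ j) h), hnorm, hΦ]
      ring
    let w : Option (Fin 24) → (Fin 24 → ℤ) := fun o => o.elim y f
    have horth' : ∀ a b, a ≠ b → β (w a) (w b) = 0 := by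
      rintro (_ | a) (_ | b) hab
      · exact absurd rfl hab
      · exact hyf b
      · rw [hs]; exact hyf a
      · exact horth a b fun e => hab (by rw [e])
    have hpos' : ∀ a, β (w a) (w a) ≠ 0 := by
      rintro (_ | a)
      · exact (hpos y hy0).ne'
      · show β (f a) (f a) ≠ 0
        rw [hnorm]; norm_num
    have hli : LinearIndependent ℤ w := by
      rw [linearIndependent_iff']
      intro s r hr i hi
      have := congrArg (fun v => β v (w i)) hr
      simp only [map_sum, AddMonoidHom.finsetSum_apply, map_zsmul, AddMonoidHom.coe_smul,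
        Pi.smul_apply, map_zero, AddMonoidHom.zero_apply] at this
      rw [Finset.sum_eq_single i] at this
      · exact (mul_eq_zero.1 (by simpa using this : r i * β (w i) (w i) = 0)).resolve_right (hpos' i)
      · intro j _ hj; simp [horth' j i hj]
      · exact fun h => absurd hi h
    have h25 := hli.fintype_card_le_finrank
    rw [Module.finrank_fintype_fun_eq_card, Fintype.card_option, Fintype.card_fin] at h25
    omega
  have hdot : ∀ x y, ∑ i, Φ x i * Φ y i = 8 * β x y := by
    intro x y
    have h := congrArg (fun v => β x v) (hexp y)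
    simp only [map_zsmul, map_sum, smul_eq_mul] at h
    rw [h]
    exact Finset.sum_congr rfl fun i _ => by rw [hΦ]; ring
  have hsq : ∀ x, ∑ i, Φ x i ^ 2 = 8 * (x ⬝ᵥ (B.mulVec x)) := fun x =>
    (Finset.sum_congr rfl fun i _ => sq (Φ x i)).trans (hdot x x)
  have hinj : Function.Injective Φ := by
    intro x y h
    by_contra hne
    have hd : Φ (x - y) = 0 := by rw [map_sub, h, sub_self]
    have := hsq (x - y)
    rw [hd] at this
    simp only [Pi.zero_apply, sq, mul_zero, Finset.sum_const_zero] at this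
    have := hpos _ (sub_ne_zero.2 hne)
    omega
  have hself : ∀ i j, β (f i) (f j) = if i = j then 8 else 0 := fun i j => by
    split_ifs with h
    · rw [h, hnorm]
    · exact horth i j h
  have hM : FrameLattice Φ.range :=
    { single_mem := fun i => ⟨f i, by
        funext k; rw [hΦ, hself, Pi.single_apply]; by_cases h : i = k <;> simp [h, eq_comm]⟩
      pair_mem := fun i j => by
        obtain ⟨z, hz⟩ := hcong i j
        refine ⟨z, funext fun k => ?_⟩
        have h := congrArg (fun v => β v (f k)) hz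
        simp only [map_sub, two_nsmul, map_add, AddMonoidHom.sub_apply, AddMonoidHom.add_apply, hself] at h
        rw [hΦ, Pi.sub_apply, Pi.single_apply, Pi.single_apply]
        split_ifs at h ⊢ <;> omega
      parity := by
        rintro _ ⟨x, rfl⟩ i j
        obtain ⟨z, hz⟩ := hcong i j
        have h := congrArg (fun v => β x v) hz
        simp only [map_sub, two_nsmul, map_add] at h
        rw [hΦ, hΦ]
        omega
      norm_dvd := by
        rintro _ ⟨x, rfl⟩
        rw [hsq]
        have := heven x; omega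
      norm_min := by
        rintro _ ⟨x, rfl⟩ hne
        rw [hsq]
        have := hmin x (fun e => hne (by rw [e, map_zero]))
        change 4 * 1 ≤ x ⬝ᵥ (B.mulVec x) at this
        omega
      dot_dvd := by
        rintro _ ⟨x, rfl⟩ _ ⟨y, rfl⟩
        rw [hdot]; exact Dvd.intro _ rfl
      count := by
        rw [← h4]
        refine Eq.trans ?_ (Set.ncard_image_of_injective _ hinj)
        congr 1
        ext v
        refine ⟨?_, ?_⟩
        · rintro ⟨⟨x, rfl⟩, hn⟩
          rw [hsq] at hn
          exact ⟨x, show x ⬝ᵥ (B.mulVec x) = 4 by omega, rfl⟩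
        · rintro ⟨x, hx, rfl⟩
          exact ⟨⟨x, rfl⟩, by rw [hsq, show x ⬝ᵥ (B.mulVec x) = 4 from hx]; norm_num⟩ }
  obtain ⟨t, e, he⟩ := exists_equiv hM
  let toG : (Fin 24 → ℤ) →+ (GolayPt → ℤ) :=
    AddMonoidHom.mk' (fun x p => flipHom t (Φ x) (e.symm p)) (fun x y => by funext p; simp)
  have htoG : ∀ x, (fun i => toG x (e i)) = flipHom t (Φ x) := fun x => by
    funext i; show flipHom t (Φ x) (e.symm (e i)) = _; rw [Equiv.symm_apply_apply]
  have hmem : ∀ x, toG x ∈ leechLattice := fun x => (he _).2 (by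
    rw [htoG, flipHom_flipHom]; exact ⟨x, rfl⟩)
  have hbij : Function.Bijective (fun x => (⟨toG x, hmem x⟩ : leechLattice)) := by
    constructor
    · intro x y h
      have h' : toG x = toG y := congrArg Subtype.val h
      have h1 : (fun i => toG x (e i)) = fun i => toG y (e i) := by
        rw [h']
      rw [htoG, htoG] at h1
      have h2 := congrArg (flipHom t) h1
      rw [flipHom_flipHom, flipHom_flipHom] at h2
      exact hinj h2
    · rintro ⟨v, hv⟩
      obtain ⟨x, hx⟩ := (he v).1 hv
      refine ⟨x, Subtype.ext (funext fun p => ?_)⟩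
      show flipHom t (Φ x) (e.symm p) = v p
      rw [hx, flipHom_flipHom, Equiv.apply_symm_apply]
  refine ⟨AddEquiv.ofBijective ((toG.codRestrict leechLattice hmem)) hbij, fun x => ?_⟩
  show ∑ p, flipHom t (Φ x) (e.symm p) ^ 2 = _
  rw [Equiv.sum_comp e.symm (fun i => flipHom t (Φ x) i ^ 2), ← hsq]
  exact Finset.sum_congr rfl fun i _ => by simp only [flipHom_apply]; split_ifs <;> ring

end Frame

end CfsgLib.Leech.Characterise
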